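import Mathlib
import Cfsg.Agent.Lib.helper7.CED.Defs
import Cfsg.Agent.Lib.Lead.STB.Defs
import Cfsg.Agent.Lib.Lead.STB.Defs2

/-!
# Project CEB (designer helper6; part of the lead's `B_m` family for S2094): central extensions of a group with a
Steinberg system of type `B` split — definitions

`σ : Γ →* G` is a central extension (`Cfsg.Agent.Lib.helper7.Ce.IsCE`) of a group `G` carrying a Steinberg system of
type `B` (`S : SysB K ι G`, the lead's `Cfsg.Agent.Lib.Lead.STB`; its long root elements `S.x a b t` form the system `S.toSysD` of type `D`,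
its short root elements are `S.xs a t`).  `CL σ x y` (helper7 `CeA`): any two lifts of `x` and `y` commute.  `lf h g` (helper7 `CeB`): a chosen lift of `g`.
`cm a b = a b a⁻¹ b⁻¹`, `cj g a = g a g⁻¹`.  Signed indices `a : ι ⊕ ι`, `ng`, `ab` as in `STC.Defs`; `ab a ≠ ab b` says that `a ≠ b` and `a ≠ ng b`.
The index conditions `I2`, `I3`, `I4`, `U3` are those of `Cfsg.Agent.Lib.helper7.CEC` (project CEC); `HC`, `HT`, `Ys`, `PB`, `PI`, `RootLift` those of
`Cfsg.Agent.Lib.helper7.CED` (project CED, applied to `S.toSysD`).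

PLAN.  A lift of the long root part is a system `P : SysD K ι Γ` with `σ (P.x a b t) = S.x a b t` (for `l ≥ 4` it exists by CED `exists_lift_sysD`; for `l = 3` see block A of the skeleton).
Given `P`, the short root elements are lifted canonically through the relation `ls`: `cm (x a b t) (xs b u) = xs a (t u) * x a (ng b) (t u²)`.
-/

set_option autoImplicit false

namespace Cfsg.Agent.Lib.helper6.CEB

open Cfsg.Agent.Lib.helper15.St2 Cfsg.Agent.Lib.helper7.Ce Cfsg.Agent.Lib.helper3.STC Cfsg.Agent.Lib.Lead.STD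
  Cfsg.Agent.Lib.helper7.CED Cfsg.Agent.Lib.Lead.STB
open Cfsg.Agent.Lib.helper7.CEC (I2 I3 I4 U3)

variable {K : Type*} [Field K] {ι : Type*} {Γ G : Type*} [Group Γ] [Group G]

/-- lifts of a short root element commute with the lifts of the long root elements it commutes with by `SysB.comm_ls` -/
def HCs (S : SysB K ι G) (σ : Γ →* G) : Prop :=
  ∀ a c d : ι ⊕ ι, c ≠ d → c ≠ ng d → d ≠ a → c ≠ ng a → ∀ t u : K, CL σ (S.xs a t) (S.x c d u)

/-- lifts of two elements of the same short root subgroup commute -/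
def HSs (S : SysB K ι G) (σ : Γ →* G) : Prop :=
  ∀ a : ι ⊕ ι, ∀ t u : K, CL σ (S.xs a t) (S.xs a u)

/-- the commutator of lifts of `x a b t` and `xs b u` (long, short): a lift of `xs a (t * u) * x a (ng b) (t * u ^ 2)` -/
noncomputable def Zs (S : SysB K ι G) {σ : Γ →* G} (h : IsCE σ) (a b : ι ⊕ ι) (t u : K) : Γ :=
  cm (lf h (S.x a b t)) (lf h (S.xs b u))

/-- a lift of the short root element `xs a (t * u)`, relative to a lift `P` of the long root part -/
noncomputable def Ds (S : SysB K ι G) {σ : Γ →* G} (h : IsCE σ) (P : SysD K ι Γ) (a b : ι ⊕ ι) (t u : K) : Γ :=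
  Zs S h a b t u * (P.x a (ng b) (t * u ^ 2))⁻¹

open Classical in
/-- the canonical lift of the short root element `xs a s`, through a chosen auxiliary index -/
noncomputable def Xsh (S : SysB K ι G) {σ : Γ →* G} (h : IsCE σ) (P : SysD K ι Γ) (h2 : I2 ι) (a : ι ⊕ ι) (s : K) : Γ :=
  Ds S h P a (Classical.choose (h2 a)) s 1

end Cfsg.Agent.Lib.helper6.CEB
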